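import Cfsg.Agent.H92.ExtP
import Mathlib.NumberTheory.Multiplicity
import Mathlib.NumberTheory.Padics.PadicVal.Basic
import Cfsg.Prelude.Def_Classification2
import Cfsg.Agent.S0280
import Cfsg.Agent.S0243
import Cfsg.Agent.S0262
import Cfsg.Agent.LieClassical.SLTwoUnipotent
import Cfsg.Agent.FastGrp
import Cfsg.Agent.Prune
set_option linter.all false
prune_inst 0x7f00000000000000000000000000000000000000000000000000000000000000000000000000000000000000000000000000000000000000000000000000000000000000000000000000000000000000003fffffffffffffffffffffffffffbeffbdffffffff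
open scoped Cfsg.Agent.FastGrp

-- part: H616/ExtNum
section
/-!
# Arithmetic of the orders of the classical groups for `Ext p G` (helper616, for S2215)
-/

set_option autoImplicit false

namespace Cfsg.Agent.H616.ExtNum

open Cfsg.Agent.H92.ExtP

universe u

variable {p : ℕ} [Fact p.Prime] {G : Type u} [Group G]

omit [Fact p.Prime] in
theorem ext_ne_zero (h : _root_.Cfsg.Agent.H92.ExtP.Ext p G) : Nat.card G ≠ 0 := fun h0 => h.not_dvd (h0 ▸ dvd_zero _)

theorem ext_fact (h : _root_.Cfsg.Agent.H92.ExtP.Ext p G) : (Nat.card G).factorization p = 3 := by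
  have hp : p.Prime := Fact.out
  have h1 := (hp.pow_dvd_iff_le_factorization (ext_ne_zero h)).1 h.dvd
  have h2 : ¬ 4 ≤ (Nat.card G).factorization p := fun h3 =>
    h.not_dvd ((hp.pow_dvd_iff_le_factorization (ext_ne_zero h)).2 h3)
  omega

/-- too large a power of `p` divides the order -/
theorem ext_false (h : _root_.Cfsg.Agent.H92.ExtP.Ext p G) {d M c : ℕ} (hM : d * Nat.card G = M) (h1 : p ^ (c + 4) ∣ M)
    (hd : ¬ p ^ (c + 1) ∣ d) : False := by
  have hp : p.Prime := Fact.out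
  have hG := ext_ne_zero h
  have hd0 : d ≠ 0 := fun h0 => hd (h0 ▸ dvd_zero _)
  have h2 := ext_fact h
  have h3 : d.factorization p < c + 1 := by
    by_contra h4
    exact hd ((hp.pow_dvd_iff_le_factorization hd0).2 (not_lt.1 h4))
  rw [← hM] at h1
  have h4 := (hp.pow_dvd_iff_le_factorization (mul_ne_zero hd0 hG)).1 h1
  rw [Nat.factorization_mul hd0 hG, Finsupp.add_apply] at h4
  omega

theorem dvd_sub_one {a q k : ℕ} (hq : 1 ≤ q) (h : q ^ k % a = 1 % a) : a ∣ q ^ k - 1 :=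
  (Nat.modEq_iff_dvd' (Nat.one_le_pow _ _ hq)).1 h.symm

theorem eight_dvd {q : ℕ} (hq : Odd q) : 8 ∣ q ^ 2 - 1 := by
  refine dvd_sub_one hq.pos ?_
  have h1 : q % 8 = 1 ∨ q % 8 = 3 ∨ q % 8 = 5 ∨ q % 8 = 7 := by
    have := Nat.odd_iff.1 hq
    omega
  rw [Nat.pow_mod]
  rcases h1 with h | h | h | h <;> rw [h]

theorem sixteen_dvd {q : ℕ} (hq : Odd q) : 16 ∣ q ^ 4 - 1 := by
  refine dvd_sub_one hq.pos ?_
  have h1 : q % 16 = 1 ∨ q % 16 = 3 ∨ q % 16 = 5 ∨ q % 16 = 7 ∨ q % 16 = 9 ∨ q % 16 = 11 ∨ q % 16 = 13 ∨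
      q % 16 = 15 := by
    have := Nat.odd_iff.1 hq
    omega
  rw [Nat.pow_mod]
  rcases h1 with h | h | h | h | h | h | h | h <;> rw [h]

theorem three_dvd {q : ℕ} (hq : ¬ 3 ∣ q) {k : ℕ} (hk : Even k) : 3 ∣ q ^ k - 1 := by
  have hq0 : 1 ≤ q := by
    rcases Nat.eq_zero_or_pos q with h | h
    · exact absurd (h ▸ dvd_zero 3) hq
    · exact h
  refine dvd_sub_one hq0 ?_
  obtain ⟨j, rfl⟩ := hk
  have h1 : q ^ 2 % 3 = 1 := by
    have h1 : q % 3 = 1 ∨ q % 3 = 2 := by omega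
    rw [Nat.pow_mod]
    rcases h1 with h | h <;> rw [h]
  rw [← two_mul, pow_mul, Nat.pow_mod, h1, one_pow]

theorem nine_dvd {q : ℕ} (hq : ¬ 3 ∣ q) : 9 ∣ q ^ 6 - 1 := by
  have hq0 : 1 ≤ q := by
    rcases Nat.eq_zero_or_pos q with h | h
    · exact absurd (h ▸ dvd_zero 3) hq
    · exact h
  refine dvd_sub_one hq0 ?_
  have h1 : q % 9 = 1 ∨ q % 9 = 2 ∨ q % 9 = 4 ∨ q % 9 = 5 ∨ q % 9 = 7 ∨ q % 9 = 8 := by omega
  rw [Nat.pow_mod]
  rcases h1 with h | h | h | h | h | h <;> rw [h]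

theorem not_pow_dvd_of_dvd {d e k : ℕ} (h : d ∣ e) (h2 : ¬ k ∣ e) : ¬ k ∣ d := fun h3 => h2 (h3.trans h)

/-- the symplectic type product -/
theorem two_dvd_prod {q m : ℕ} (hq : Odd q) (hm : 2 ≤ m) :
    2 ^ 7 ∣ ∏ i ∈ Finset.range m, (q ^ (2 * (i + 1)) - 1) := by
  refine dvd_trans ?_ (Finset.prod_dvd_prod_of_subset (Finset.range 2) _ _ (Finset.range_subset_range.2 hm))
  rw [Finset.prod_range_succ, Finset.prod_range_succ, Finset.prod_range_zero, one_mul,
    show (2 : ℕ) ^ 7 = 8 * 16 by norm_num]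
  exact mul_dvd_mul (eight_dvd hq) (sixteen_dvd hq)

theorem three_dvd_prod {q m : ℕ} (hq : ¬ 3 ∣ q) (hm : 3 ≤ m) :
    3 ^ 4 ∣ ∏ i ∈ Finset.range m, (q ^ (2 * (i + 1)) - 1) := by
  refine dvd_trans ?_ (Finset.prod_dvd_prod_of_subset (Finset.range 3) _ _ (Finset.range_subset_range.2 hm))
  rw [Finset.prod_range_succ, Finset.prod_range_succ, Finset.prod_range_succ, Finset.prod_range_zero, one_mul,
    show (3 : ℕ) ^ 4 = 3 * 3 * 9 by norm_num]
  exact mul_dvd_mul (mul_dvd_mul (three_dvd hq ⟨1, rfl⟩) (three_dvd hq ⟨2, rfl⟩)) (nine_dvd hq)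

/-- `p` divides `q`: for the groups whose `p`-part is a large power of `q` -/
theorem ext_false_of_dvd (h : _root_.Cfsg.Agent.H92.ExtP.Ext p G) {d M q e : ℕ} (hM : d * Nat.card G = M) (hq : p ∣ q) (he : 4 ≤ e)
    (h1 : q ^ e ∣ M) (hd : ¬ p ∣ d) : False :=
  ext_false h (c := 0) hM ((pow_dvd_pow_of_dvd hq 4).trans ((pow_dvd_pow q he).trans h1)) (by simpa using hd)

omit [Fact p.Prime] in
theorem not_dvd_sub_one {q k d : ℕ} (hp : p.Prime) (hq : p ∣ q) (hk : k ≠ 0) (hq0 : 1 ≤ q) (hd : d ∣ q ^ k - 1) :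
    ¬ p ∣ d := by
  intro h
  have h1 : p ∣ q ^ k := dvd_pow hq hk
  have h2 := (Nat.dvd_sub_iff_right (Nat.one_le_pow k q hq0) h1).1 (h.trans hd)
  exact hp.one_lt.ne' (Nat.dvd_one.1 h2)

omit [Fact p.Prime] in
theorem not_dvd_add_one {q k d : ℕ} (hp : p.Prime) (hq : p ∣ q) (hk : k ≠ 0) (hd : d ∣ q ^ k + 1) :
    ¬ p ∣ d := by
  intro h
  have h1 : p ∣ q ^ k := dvd_pow hq hk
  have h2 := (Nat.dvd_add_right h1).1 (h.trans hd)
  exact hp.one_lt.ne' (Nat.dvd_one.1 h2)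

/-- symplectic and odd orthogonal groups -/
theorem sp_false (h : _root_.Cfsg.Agent.H92.ExtP.Ext p G) {q m d : ℕ} (hm : 2 ≤ m) (hq : 2 ≤ q) (hd2 : d ∣ 2) (hdq : d ∣ q ^ 1 - 1)
    (hM : d * Nat.card G = q ^ (m ^ 2) * ∏ i ∈ Finset.range m, (q ^ (2 * (i + 1)) - 1))
    (hp : p = 2 ∨ (p = 3 ∧ 3 ≤ m) ∨ p ∣ q) : False := by
  have hpp : p.Prime := Fact.out
  have main : p ∣ q → False := fun hpq =>
    ext_false_of_dvd h hM hpq (e := m ^ 2) (by nlinarith only [hm]) (Dvd.intro _ rfl)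
      (not_dvd_sub_one hpp hpq one_ne_zero (by omega) hdq)
  rcases hp with rfl | ⟨rfl, hm3⟩ | hpq
  · by_cases h2 : 2 ∣ q
    · exact main h2
    · have ho : Odd q := by
        rw [← Nat.not_even_iff_odd, even_iff_two_dvd]
        exact h2
      refine ext_false h (c := 1) hM ?_ ?_
      · exact ((pow_dvd_pow 2 (by norm_num : 1 + 4 ≤ 7)).trans (two_dvd_prod ho hm)).mul_left _
      · exact not_pow_dvd_of_dvd hd2 (by norm_num)
  · by_cases h3 : 3 ∣ q
    · exact main h3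
    · refine ext_false h (c := 0) hM ?_ ?_
      · exact (three_dvd_prod h3 hm3).mul_left _
      · exact not_pow_dvd_of_dvd hd2 (by norm_num)
  · exact main hpq

/-- even orthogonal groups -/
theorem oe_false (h : _root_.Cfsg.Agent.H92.ExtP.Ext p G) {q m d w : ℕ} (hm : 4 ≤ m) (hd2 : d ∣ 4) (hdw : ∀ r, r.Prime → r ∣ q → ¬ r ∣ d)
    (hM : d * Nat.card G = q ^ (m * (m - 1)) * w * ∏ i ∈ Finset.range (m - 1), (q ^ (2 * (i + 1)) - 1))
    (hp : p = 2 ∨ p = 3 ∨ p ∣ q) : False := by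
  have hpp : p.Prime := Fact.out
  have he : 4 ≤ m * (m - 1) := le_trans hm (Nat.le_mul_of_pos_right _ (by omega))
  have main : p ∣ q → False := fun hpq =>
    ext_false_of_dvd h hM hpq (e := m * (m - 1)) he ((Dvd.intro _ rfl : _ ∣ _ * w).mul_right _) (hdw p hpp hpq)
  rcases hp with rfl | rfl | hpq
  · by_cases h2 : 2 ∣ q
    · exact main h2
    · have ho : Odd q := by
        rw [← Nat.not_even_iff_odd, even_iff_two_dvd]
        exact h2
      refine ext_false h (c := 2) hM ?_ ?_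
      · exact ((pow_dvd_pow 2 (by norm_num : 2 + 4 ≤ 7)).trans (two_dvd_prod ho (by omega))).mul_left _
      · exact not_pow_dvd_of_dvd hd2 (by norm_num)
  · by_cases h3 : 3 ∣ q
    · exact main h3
    · refine ext_false h (c := 0) hM ?_ ?_
      · exact (three_dvd_prod h3 (by omega)).mul_left _
      · exact not_pow_dvd_of_dvd hd2 (by norm_num)
  · exact main hpq

end Cfsg.Agent.H616.ExtNum
end

-- part: H616/ExtLU
section
/-!
# Arithmetic of the orders of `PSL_n(q)` and `PSU_n(q)` for `Ext p G` (helper616, for S2215)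
-/

set_option autoImplicit false

namespace Cfsg.Agent.H616.ExtLU

open Cfsg.Agent.H92.ExtP Cfsg.Agent.H616.ExtNum

universe u

variable {p : ℕ} [Fact p.Prime] {G : Type u} [Group G]

/-- `p` divides `q` -/
theorem char_case (h : _root_.Cfsg.Agent.H92.ExtP.Ext p G) {n q s : ℕ} {g : ℕ → ℕ} (hn : 3 ≤ n)
    (hM : Nat.gcd n s * Nat.card G = q ^ (n * (n - 1) / 2) * ∏ i ∈ Finset.range (n - 1), g (i + 2))
    (hpq : p ∣ q) (hps : ¬ p ∣ s) : n = 3 ∧ ¬ p ^ 2 ∣ q := by
  have hd : ¬ p ∣ Nat.gcd n s := not_pow_dvd_of_dvd (Nat.gcd_dvd_right _ _) hps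
  have hn3 : n = 3 := by
    by_contra h3
    have h4 : 4 ≤ n := by omega
    have h5 : 4 ≤ n * (n - 1) / 2 := by
      rw [Nat.le_div_iff_mul_le (by norm_num)]
      have h6 : 4 * 3 ≤ n * (n - 1) := Nat.mul_le_mul h4 (by omega)
      omega
    exact ext_false_of_dvd h hM hpq h5 (Dvd.intro _ rfl) hd
  refine ⟨hn3, fun h2 => ?_⟩
  subst hn3
  refine ext_false h (c := 0) hM ?_ (by simpa using hd)
  refine Dvd.dvd.mul_right ?_ _
  have h6 : (p ^ 2) ^ 3 ∣ q ^ 3 := pow_dvd_pow_of_dvd h2 3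
  rw [← pow_mul] at h6
  exact (pow_dvd_pow p (by norm_num)).trans h6

/-- the prime `2` -/
theorem two_case {G : Type u} [Group G] (h : Ext 2 G) {n q s : ℕ} {g : ℕ → ℕ} (hn : 3 ≤ n)
    (hM : Nat.gcd n s * Nat.card G = q ^ (n * (n - 1) / 2) * ∏ i ∈ Finset.range (n - 1), g (i + 2))
    (hs0 : s ≠ 0) (g2 : 2 * s ∣ g 2) (g2' : 8 ∣ g 2) (g3 : 2 ∣ g 3) (g4 : 16 ∣ g 4) : False := by
  rcases Nat.lt_or_ge n 4 with h4 | h4
  · have hn3 : n = 3 := by omega
    subst hn3
    refine ext_false h (c := 0) hM ?_ ?_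
    · refine Dvd.dvd.mul_left ?_ _
      rw [show 3 - 1 = 2 from rfl, Finset.prod_range_succ, Finset.prod_range_succ, Finset.prod_range_zero, one_mul,
        show (2 : ℕ) ^ (0 + 4) = 8 * 2 by norm_num]
      exact mul_dvd_mul g2' g3
    · exact not_pow_dvd_of_dvd (Nat.gcd_dvd_left _ _) (by norm_num)
  · set a := s.factorization 2 with ha
    have h1 : 2 ^ a ∣ s := Nat.ordProj_dvd s 2
    refine ext_false h (c := a) hM ?_ ?_
    · refine Dvd.dvd.mul_left ?_ _
      refine dvd_trans ?_ (Finset.prod_dvd_prod_of_subset (Finset.range 3) _ _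
        (Finset.range_subset_range.2 (by omega)))
      rw [Finset.prod_range_succ, Finset.prod_range_succ, Finset.prod_range_succ, Finset.prod_range_zero, one_mul]
      have h2 : 2 ^ (a + 6) = 2 * 2 ^ a * 2 * 16 := by ring
      refine (pow_dvd_pow 2 (by omega : a + 4 ≤ a + 6)).trans ?_
      rw [h2]
      exact mul_dvd_mul (mul_dvd_mul ((mul_dvd_mul_left 2 h1).trans g2) g3) g4
    · refine not_pow_dvd_of_dvd (Nat.gcd_dvd_right _ _) ?_
      exact Nat.pow_succ_factorization_not_dvd hs0 Nat.prime_two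

/-- the bound `n ≤ 4` -/
theorem le_four (h : _root_.Cfsg.Agent.H92.ExtP.Ext p G) {n q s : ℕ} {g : ℕ → ℕ}
    (hM : Nat.gcd n s * Nat.card G = q ^ (n * (n - 1) / 2) * ∏ i ∈ Finset.range (n - 1), g (i + 2))
    (hs0 : s ≠ 0) (hps : p ∣ s) (hg : ∀ k, 2 ≤ k → s ∣ g k) (g5 : 5 ∣ s → 5 * s ∣ g 5) : n ≤ 4 := by
  have hp : p.Prime := Fact.out
  by_contra hn
  set a := s.factorization p with ha
  have h1 : p ^ a ∣ s := Nat.ordProj_dvd s p
  have ha1 : 1 ≤ a := (hp.dvd_iff_one_le_factorization hs0).1 hps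
  rcases Nat.lt_or_ge n 6 with h6 | h6
  · have hn5 : n = 5 := by omega
    subst hn5
    by_cases hp5 : p = 5
    · subst hp5
      refine ext_false h (c := 1) hM ?_ ?_
      · refine Dvd.dvd.mul_left ?_ _
        rw [show 5 - 1 = 4 from rfl, Finset.prod_range_succ, Finset.prod_range_succ, Finset.prod_range_succ,
          Finset.prod_range_succ, Finset.prod_range_zero, one_mul]
        have h2 : 5 ^ (4 * a + 1) = 5 ^ a * 5 ^ a * 5 ^ a * (5 * 5 ^ a) := by ring
        refine (pow_dvd_pow 5 (by omega : 1 + 4 ≤ 4 * a + 1)).trans ?_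
        rw [h2]
        refine mul_dvd_mul (mul_dvd_mul (mul_dvd_mul ?_ ?_) ?_) ?_
        · exact h1.trans (hg _ (by norm_num))
        · exact h1.trans (hg _ (by norm_num))
        · exact h1.trans (hg _ (by norm_num))
        · exact (mul_dvd_mul_left 5 h1).trans (g5 hps)
      · exact not_pow_dvd_of_dvd (Nat.gcd_dvd_left _ _) (by norm_num)
    · refine ext_false h (c := 0) hM ?_ ?_
      · refine Dvd.dvd.mul_left ?_ _
        rw [show 5 - 1 = 4 from rfl, Finset.prod_range_succ, Finset.prod_range_succ, Finset.prod_range_succ,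
          Finset.prod_range_succ, Finset.prod_range_zero, one_mul]
        have h2 : p ^ (4 * a) = p ^ a * p ^ a * p ^ a * p ^ a := by ring
        refine (pow_dvd_pow p (by omega : 0 + 4 ≤ 4 * a)).trans ?_
        rw [h2]
        refine mul_dvd_mul (mul_dvd_mul (mul_dvd_mul ?_ ?_) ?_) ?_
        all_goals exact h1.trans (hg _ (by norm_num))
      · refine not_pow_dvd_of_dvd (Nat.gcd_dvd_left _ _) ?_
        intro h5
        rw [zero_add, pow_one] at h5
        rcases (Nat.dvd_prime Nat.prime_five).1 h5 with h7 | h7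
        · exact hp.one_lt.ne' h7
        · exact hp5 h7
  · refine ext_false h (c := a) hM ?_ ?_
    · refine Dvd.dvd.mul_left ?_ _
      refine dvd_trans ?_ (Finset.prod_dvd_prod_of_subset (Finset.range 5) _ _
        (Finset.range_subset_range.2 (by omega)))
      rw [Finset.prod_range_succ, Finset.prod_range_succ, Finset.prod_range_succ, Finset.prod_range_succ,
        Finset.prod_range_succ, Finset.prod_range_zero, one_mul]
      have h2 : p ^ (5 * a) = p ^ a * p ^ a * p ^ a * p ^ a * p ^ a := by ring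
      refine (pow_dvd_pow p (by omega : a + 4 ≤ 5 * a)).trans ?_
      rw [h2]
      refine mul_dvd_mul (mul_dvd_mul (mul_dvd_mul (mul_dvd_mul ?_ ?_) ?_) ?_) ?_
      all_goals exact h1.trans (hg _ (by norm_num))
    · refine not_pow_dvd_of_dvd (Nat.gcd_dvd_right _ _) ?_
      exact Nat.pow_succ_factorization_not_dvd hs0 hp

/-- the prime `3` -/
theorem three_case {G : Type u} [Group G] [Fact (Nat.Prime 3)] (h : Ext 3 G) {n q s t : ℕ} {g : ℕ → ℕ}
    (hn : 3 ≤ n) (hn4 : n ≤ 4)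
    (hM : Nat.gcd n s * Nat.card G = q ^ (n * (n - 1) / 2) * ∏ i ∈ Finset.range (n - 1), g (i + 2))
    (hs0 : s ≠ 0) (hps : 3 ∣ s) (hq : ¬ 3 ∣ q) (g2 : g 2 = s * t) (ht : ¬ 3 ∣ t) (g30 : g 3 ≠ 0)
    (g3 : (g 3).factorization 3 = s.factorization 3 + 1) (g4 : s ∣ g 4) : False := by
  have hp : Nat.Prime 3 := Fact.out
  set a := s.factorization 3 with ha
  have h1 : 3 ^ a ∣ s := Nat.ordProj_dvd s 3
  have ha1 : 1 ≤ a := (hp.dvd_iff_one_le_factorization hs0).1 hps
  have ht0 : t ≠ 0 := fun h0 => ht (h0 ▸ dvd_zero _)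
  have hq0 : q ≠ 0 := fun h0 => hq (h0 ▸ dvd_zero _)
  rcases Nat.lt_or_ge n 4 with h4 | h4
  · have hn3 : n = 3 := by omega
    subst hn3
    rw [show 3 - 1 = 2 from rfl, Finset.prod_range_succ, Finset.prod_range_succ, Finset.prod_range_zero, one_mul,
      g2, Nat.gcd_eq_left hps] at hM
    change 3 * Nat.card G = q ^ 3 * (s * t * g 3) at hM
    have h5 := congrArg (fun z => z.factorization 3) hM
    rw [Nat.factorization_mul (by norm_num) (ext_ne_zero h), Nat.factorization_mul (pow_ne_zero _ hq0)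
      (mul_ne_zero (mul_ne_zero hs0 ht0) g30), Nat.factorization_mul (mul_ne_zero hs0 ht0) g30,
      Nat.factorization_mul hs0 ht0, Nat.factorization_pow] at h5
    simp only [Finsupp.add_apply, Finsupp.smul_apply, smul_eq_mul] at h5
    rw [ext_fact h, g3, Nat.factorization_eq_zero_of_not_dvd hq, Nat.factorization_eq_zero_of_not_dvd ht,
      hp.factorization_self] at h5
    omega
  · have hn' : n = 4 := by omega
    subst hn'
    refine ext_false h (c := 0) hM ?_ ?_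
    · refine Dvd.dvd.mul_left ?_ _
      rw [show 4 - 1 = 3 from rfl, Finset.prod_range_succ, Finset.prod_range_succ, Finset.prod_range_succ,
        Finset.prod_range_zero, one_mul]
      have h2 : 3 ^ (3 * a + 1) = 3 ^ a * 3 ^ (a + 1) * 3 ^ a := by ring
      refine (pow_dvd_pow 3 (by omega : 0 + 4 ≤ 3 * a + 1)).trans ?_
      rw [h2]
      refine mul_dvd_mul (mul_dvd_mul ?_ ?_) ?_
      · change 3 ^ a ∣ g 2
        rw [g2]
        exact h1.mul_right _
      · change 3 ^ (a + 1) ∣ g 3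
        rw [hp.pow_dvd_iff_le_factorization g30, g3]
      · exact h1.trans g4
    · exact not_pow_dvd_of_dvd (Nat.gcd_dvd_left _ _) (by norm_num)

/-! ### linear groups -/

theorem prod_gl (n q : ℕ) (hn : 1 ≤ n) : ∏ i : Fin n, (q ^ n - q ^ (i : ℕ)) =
    (q - 1) * (q ^ (n * (n - 1) / 2) * ∏ i ∈ Finset.range (n - 1), (q ^ (i + 2) - 1)) := by
  rw [Fin.prod_univ_eq_prod_range (fun i => q ^ n - q ^ i) n]
  have h1 : ∏ i ∈ Finset.range n, (q ^ n - q ^ i) = (∏ i ∈ Finset.range n, q ^ i) * ∏ i ∈ Finset.range n, (q ^ (n - i) - 1) := by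
    rw [← Finset.prod_mul_distrib]
    refine Finset.prod_congr rfl fun i hi => ?_
    have hi' := Finset.mem_range.1 hi
    rw [Nat.mul_sub, mul_one, ← pow_add, Nat.add_sub_cancel' hi'.le]
  have h2 : ∏ i ∈ Finset.range n, (q ^ (n - i) - 1) = ∏ i ∈ Finset.range n, (q ^ (i + 1) - 1) := by
    rw [← Finset.prod_range_reflect]
    refine Finset.prod_congr rfl fun i hi => ?_
    have hi' := Finset.mem_range.1 hi
    congr 2
    omega
  have h3 : ∏ i ∈ Finset.range n, q ^ i = q ^ (n * (n - 1) / 2) := by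
    rw [Finset.prod_pow_eq_pow_sum, Finset.sum_range_id]
  rw [h1, h2, h3]
  obtain ⟨k, rfl⟩ : ∃ k, n = k + 1 := ⟨n - 1, by omega⟩
  rw [Finset.prod_range_succ', Nat.add_sub_cancel]
  simp only [zero_add, pow_one]
  ring

theorem sub_dvd {q k : ℕ} : q - 1 ∣ q ^ k - 1 := by
  simpa only [_root_.one_pow] using Nat.sub_dvd_pow_sub_pow q 1 k

theorem linear {G : Type u} [Group G] (h : _root_.Cfsg.Agent.H92.ExtP.Ext p G) {n q : ℕ} (hn : 3 ≤ n) (hq : 2 ≤ q)
    (hM : Nat.gcd n (q - 1) * Nat.card G = q ^ (n * (n - 1) / 2) * ∏ i ∈ Finset.range (n - 1), (q ^ (i + 2) - 1)) :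
    (p ∣ q → n = 3 ∧ ¬ p ^ 2 ∣ q) ∧ (p = 2 → 2 ∣ q) ∧ (p ≠ 2 → p ∣ q - 1 → n ≤ 4 ∧ p ≠ 3) := by
  have hp : p.Prime := Fact.out
  refine ⟨fun hpq => ?_, ?_, ?_⟩
  · refine char_case h (g := fun k => q ^ k - 1) hn hM hpq ?_
    have := not_dvd_sub_one (k := 1) hp hpq one_ne_zero (by omega) dvd_rfl
    rwa [pow_one] at this
  · rintro rfl
    by_contra h2
    have ho : Odd q := by
      rw [← Nat.not_even_iff_odd, even_iff_two_dvd]
      exact h2
    have h21 : 2 ∣ q - 1 := by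
      obtain ⟨k, hk⟩ := ho
      exact ⟨k, by (clear * - hk; omega)⟩
    refine two_case h (g := fun k => q ^ k - 1) hn hM (by omega) ?_ (eight_dvd ho) (h21.trans sub_dvd)
      (sixteen_dvd ho)
    have h3 : q ^ 2 - 1 = (q + 1) * (q - 1) := by
      rw [← Nat.sq_sub_sq, one_pow]
    change 2 * (q - 1) ∣ q ^ 2 - 1
    rw [h3]
    refine mul_dvd_mul_right ?_ _
    obtain ⟨k, hk⟩ := ho
    exact ⟨k + 1, by omega⟩
  · intro hp2 hps
    have hodd : Odd p := hp.odd_of_ne_two hp2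
    have hs0 : q - 1 ≠ 0 := by omega
    have hlift : ∀ r : ℕ, r.Prime → Odd r → r ∣ q - 1 → (q ^ r - 1).factorization r = (q - 1).factorization r + 1 := by
      intro r hr hro hrs
      have : Fact r.Prime := ⟨hr⟩
      have hrq : ¬ r ∣ q := by
        intro h1
        have := (Nat.dvd_sub_iff_right (by omega : 1 ≤ q) h1).1 hrs
        exact hr.one_lt.ne' (Nat.dvd_one.1 this)
      have h1 := padicValNat.pow_sub_pow (p := r) (x := q) (y := 1) hro (by omega) hrs hrq (n := r) hr.ne_zero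
      rw [one_pow, padicValNat_self] at h1
      rw [Nat.factorization_def _ hr, Nat.factorization_def _ hr]
      exact h1
    have hn4 : n ≤ 4 := by
      refine le_four h (g := fun k => q ^ k - 1) hM hs0 hps (fun k _ => sub_dvd) ?_
      intro h5
      have h6 : (q - 1) * 5 ∣ q ^ 5 - 1 := by
        have h7 : q ^ 5 - 1 = (q - 1) * (q ^ 4 + q ^ 3 + q ^ 2 + q + 1) := by
          obtain ⟨k, rfl⟩ : ∃ k, q = k + 1 := ⟨q - 1, by omega⟩
          rw [Nat.add_sub_cancel]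
          refine Nat.sub_eq_of_eq_add ?_
          ring
        rw [h7]
        refine mul_dvd_mul_left _ ?_
        have h8 : q % 5 = 1 := by (clear * - hq h5; omega)
        rw [Nat.dvd_iff_mod_eq_zero, Nat.add_mod, Nat.add_mod (q ^ 4 + q ^ 3 + q ^ 2),
          Nat.add_mod (q ^ 4 + q ^ 3), Nat.add_mod (q ^ 4), Nat.pow_mod q 4, Nat.pow_mod q 3, Nat.pow_mod q 2, h8]
      rw [mul_comm]
      exact h6
    refine ⟨hn4, ?_⟩
    rintro rfl
    have hq3 : q % 3 = 1 := by omega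
    have h3 : q ^ 2 - 1 = (q - 1) * (q + 1) := by
      rw [mul_comm, ← Nat.sq_sub_sq, one_pow]
    refine three_case h (g := fun k => q ^ k - 1) (t := q + 1) hn hn4 hM hs0 hps (by omega) h3 (by omega) ?_
      (hlift 3 hp hodd hps) sub_dvd
    have : 2 ^ 3 ≤ q ^ 3 := Nat.pow_le_pow_left hq 3
    omega

/-! ### unitary groups -/

theorem add_dvd_odd {q k : ℕ} (hk : Odd k) : q + 1 ∣ q ^ k + 1 := by
  simpa using Odd.nat_add_dvd_pow_add_pow q 1 hk

theorem add_dvd_even {q k : ℕ} (hk : Even k) : q + 1 ∣ q ^ k - 1 := by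
  obtain ⟨j, rfl⟩ := hk
  have h1 : q + 1 ∣ q ^ 2 - 1 := by
    have h3 : q ^ 2 - 1 = (q + 1) * (q - 1) := by
      rw [← Nat.sq_sub_sq, one_pow]
    rw [h3]
    exact Dvd.intro _ rfl
  refine h1.trans ?_
  rw [← two_mul, pow_mul]
  exact sub_dvd

theorem unitary {G : Type u} [Group G] (h : _root_.Cfsg.Agent.H92.ExtP.Ext p G) {n q : ℕ} (hn : 3 ≤ n) (hq : 2 ≤ q)
    (hM : Nat.gcd n (q + 1) * Nat.card G = q ^ (n * (n - 1) / 2) *
      ∏ i ∈ Finset.range (n - 1), (if Even (i + 2) then q ^ (i + 2) - 1 else q ^ (i + 2) + 1)) :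
    (p ∣ q → n = 3 ∧ ¬ p ^ 2 ∣ q) ∧ (p = 2 → 2 ∣ q) ∧ (p ≠ 2 → p ∣ q + 1 → n ≤ 4 ∧ p ≠ 3) := by
  have hp : p.Prime := Fact.out
  refine ⟨fun hpq => ?_, ?_, ?_⟩
  · refine char_case h (g := fun k => if Even k then q ^ k - 1 else q ^ k + 1) hn hM hpq ?_
    have := not_dvd_add_one (k := 1) hp hpq one_ne_zero dvd_rfl
    rwa [pow_one] at this
  · rintro rfl
    by_contra h2
    have ho : Odd q := by
      rw [← Nat.not_even_iff_odd, even_iff_two_dvd]
      exact h2
    have h21 : 2 ∣ q - 1 := by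
      obtain ⟨k, hk⟩ := ho
      exact ⟨k, by (clear * - hk; omega)⟩
    refine two_case h (g := fun k => if Even k then q ^ k - 1 else q ^ k + 1) hn hM (by omega) ?_ (eight_dvd ho) ?_
      (sixteen_dvd ho)
    · have h3 : q ^ 2 - 1 = (q - 1) * (q + 1) := by
        rw [mul_comm, ← Nat.sq_sub_sq, one_pow]
      change 2 * (q + 1) ∣ q ^ 2 - 1
      rw [h3]
      exact mul_dvd_mul_right h21 _
    · change 2 ∣ q ^ 3 + 1
      exact even_iff_two_dvd.1 ((ho.pow).add_one)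
  · intro hp2 hps
    have hodd : Odd p := hp.odd_of_ne_two hp2
    have hs0 : q + 1 ≠ 0 := by omega
    have hg : ∀ k, 2 ≤ k → q + 1 ∣ (if Even k then q ^ k - 1 else q ^ k + 1) := by
      intro k _
      split_ifs with hk
      · exact add_dvd_even hk
      · exact add_dvd_odd (Nat.not_even_iff_odd.1 hk)
    have hlift : ∀ r : ℕ, r.Prime → Odd r → r ∣ q + 1 → (q ^ r + 1).factorization r = (q + 1).factorization r + 1 := by
      intro r hr hro hrs
      have : Fact r.Prime := ⟨hr⟩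
      have hrq : ¬ r ∣ q := by
        intro h1
        have := (Nat.dvd_add_right h1).1 hrs
        exact hr.one_lt.ne' (Nat.dvd_one.1 this)
      have h1 := padicValNat.pow_add_pow (p := r) (x := q) (y := 1) hro hrs hrq (n := r) hro
      rw [one_pow, padicValNat_self] at h1
      rw [Nat.factorization_def _ hr, Nat.factorization_def _ hr]
      exact h1
    have hn4 : n ≤ 4 := by
      refine le_four h (g := fun k => if Even k then q ^ k - 1 else q ^ k + 1) hM hs0 hps hg ?_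
      intro h5
      change 5 * (q + 1) ∣ q ^ 5 + 1
      have h7 : q ^ 5 + 1 = (q ^ 4 + q ^ 2 + 1 - (q ^ 3 + q)) * (q + 1) := by
        have h8 : q ^ 3 + q ≤ q ^ 4 + q ^ 2 + 1 := by linarith only [Nat.pow_le_pow_right (by omega : 1 ≤ q) (by norm_num : 3 ≤ 4), Nat.pow_le_pow_right (by omega : 1 ≤ q) (by norm_num : 1 ≤ 2)]
        zify [h8]
        ring
      rw [h7]
      refine mul_dvd_mul_right ?_ _
      have h8 : q % 5 = 4 := by omega
      have h9 : q ^ 3 + q ≤ q ^ 4 + q ^ 2 + 1 := by linarith only [Nat.pow_le_pow_right (by omega : 1 ≤ q) (by norm_num : 3 ≤ 4), Nat.pow_le_pow_right (by omega : 1 ≤ q) (by norm_num : 1 ≤ 2)]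
      refine (Nat.modEq_iff_dvd' h9).1 ?_
      change (q ^ 3 + q) % 5 = (q ^ 4 + q ^ 2 + 1) % 5
      rw [Nat.add_mod, Nat.add_mod (q ^ 4 + q ^ 2), Nat.add_mod (q ^ 4), Nat.pow_mod q 4, Nat.pow_mod q 3,
        Nat.pow_mod q 2, h8]
    refine ⟨hn4, ?_⟩
    rintro rfl
    have hq3 : q % 3 = 2 := by omega
    have h3 : q ^ 2 - 1 = (q + 1) * (q - 1) := by
      rw [← Nat.sq_sub_sq, one_pow]
    exact three_case h (g := fun k => if Even k then q ^ k - 1 else q ^ k + 1) (t := q - 1) hn hn4 hM hs0 hps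
      (by omega) h3 (by omega) (Nat.succ_ne_zero _) (hlift 3 hp hodd hps) (hg 4 (by norm_num))

end Cfsg.Agent.H616.ExtLU
end

-- part: H616/ExtPSU
section
/-!
# Unitary groups with nonabelian Sylow `p`-subgroups of order `p³`, `p = 2`, `p ∣ q` or `p ∣ q + 1`
(helper616, for S2215)
-/

set_option autoImplicit false

namespace Cfsg.Agent.H616.ExtPSU

open Cfsg Cfsg.Lie Cfsg.Agent.H92.ExtP

variable {p : ℕ} [Fact p.Prime]

theorem eq_of_primePow {q : ℕ} (hq : IsPrimePow q) (h1 : p ∣ q) (h2 : ¬ p ^ 2 ∣ q) : q = p := by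
  have hp : p.Prime := Fact.out
  obtain ⟨r, k, hr, hk, rfl⟩ := hq
  have hr' : r.Prime := hr.nat_prime
  have hpr : p = r := (Nat.prime_dvd_prime_iff_eq hp hr').1 (hp.dvd_of_dvd_pow h1)
  subst hpr
  have hk1 : k = 1 := by
    by_contra h3
    exact h2 (pow_dvd_pow p (by omega))
  rw [hk1, pow_one]

theorem card_eq {F : Type} [Field F] [Fintype F] {n q : ℕ} (hn : 3 ≤ n) (hF : Fintype.card F = q ^ 2) :
    Nat.gcd n (q + 1) * Nat.card (PSU n F q) = q ^ (n * (n - 1) / 2) *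
      ∏ i ∈ Finset.range (n - 1), (if Even (i + 2) then q ^ (i + 2) - 1 else q ^ (i + 2) + 1) := by
  have h := S0280.result hF n (by omega)
  obtain ⟨k, rfl⟩ : ∃ k, n = k + 1 := ⟨n - 1, by omega⟩
  rw [Finset.prod_range_succ', Nat.add_sub_cancel] at h
  rw [Nat.add_sub_cancel]
  have h2 : ∏ i ∈ Finset.range k, (if Even (i + 1) then q ^ (i + 1 + 1) + 1 else q ^ (i + 1 + 1) - 1) =
      ∏ i ∈ Finset.range k, (if Even (i + 2) then q ^ (i + 2) - 1 else q ^ (i + 2) + 1) := by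
    refine Finset.prod_congr rfl fun i _ => ?_
    by_cases he : Even (i + 1)
    · rw [if_pos he, if_neg]
      rw [Nat.not_even_iff_odd]
      exact he.add_one
    · rw [if_neg he, if_pos]
      rw [Nat.not_even_iff_odd] at he
      exact he.add_one
  rw [h2, if_pos Even.zero, zero_add, pow_one] at h
  have h3 : 0 < q + 1 := Nat.succ_pos _
  refine Nat.eq_of_mul_eq_mul_left h3 ?_
  calc (q + 1) * (Nat.gcd (k + 1) (q + 1) * Nat.card (PSU (k + 1) F q)) =
      Nat.gcd (k + 1) (q + 1) * ((q + 1) * Nat.card (PSU (k + 1) F q)) := by ring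
    _ = _ := h
    _ = _ := by ring

theorem two_le {F : Type} [Field F] [Fintype F] {q : ℕ} (hF : Fintype.card F = q ^ 2) : 2 ≤ q := by
  have hq : 1 < Fintype.card F := Fintype.one_lt_card
  rw [hF] at hq
  by_contra h2
  have h3 : q ≤ 1 := by omega
  have h4 : q ^ 2 ≤ 1 := Nat.pow_le_one_iff (by norm_num) |>.2 h3
  omega

theorem psu {F : Type} [Field F] [Fintype F] {n q : ℕ} (hn : 3 ≤ n) (hF : Fintype.card F = q ^ 2)
    (hp : p = 2 ∨ p ∣ q) (h : _root_.Cfsg.Agent.H92.ExtP.Ext p (PSU n F q)) : n = 3 ∧ q = p := by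
  obtain ⟨h1, h2, _⟩ := ExtLU.unitary h hn (two_le hF) (card_eq hn hF)
  have hpq : p ∣ q := by
    rcases hp with h3 | h3
    · have := h2 h3
      rw [h3]
      exact this
    · exact h3
  obtain ⟨h4, h5⟩ := h1 hpq
  have hq2 : IsPrimePow (q ^ 2) := hF ▸ Fintype.isPrimePow_card_of_field
  exact ⟨h4, eq_of_primePow ((isPrimePow_pow_iff (by norm_num)).1 hq2) hpq h5⟩

theorem psu' {F : Type} [Field F] [Fintype F] {n q : ℕ} (hn : 3 ≤ n) (hF : Fintype.card F = q ^ 2)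
    (hp : p ≠ 2) (hpq : p ∣ q + 1) (h : _root_.Cfsg.Agent.H92.ExtP.Ext p (PSU n F q)) : n ≤ 4 ∧ 5 ≤ p := by
  obtain ⟨_, _, h3⟩ := ExtLU.unitary h hn (two_le hF) (card_eq hn hF)
  obtain ⟨h4, h5⟩ := h3 hp hpq
  have hpp : p.Prime := Fact.out
  refine ⟨h4, ?_⟩
  by_contra h6
  have h7 := hpp.two_le
  have h8 : p = 4 := by (clear * - hp h5 h6 h7; omega)
  rw [h8] at hpp
  exact absurd hpp (by norm_num)

end Cfsg.Agent.H616.ExtPSU
end

-- part: H616/ExtPSL
section
/-!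
# Linear groups with nonabelian Sylow `p`-subgroups of order `p³`, `p = 2`, `p ∣ q` or `p ∣ q - 1`
(helper616, for S2215)
-/

set_option autoImplicit false

namespace Cfsg.Agent.H616.ExtPSL

open Cfsg Cfsg.Lie Cfsg.Agent.H92.ExtP Matrix Cfsg.Agent.LieClassical.SLTwoUnipotent

variable {p : ℕ} [Fact p.Prime]

/-! ### dimension at least three -/

theorem card_eq {F : Type} [Field F] [Fintype F] {n : ℕ} (hn : 2 ≤ n) :
    Nat.gcd n (Fintype.card F - 1) * Nat.card (Matrix.ProjectiveSpecialLinearGroup (Fin n) F) =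
      Fintype.card F ^ (n * (n - 1) / 2) * ∏ i ∈ Finset.range (n - 1), (Fintype.card F ^ (i + 2) - 1) := by
  have hq : 1 < Fintype.card F := Fintype.one_lt_card
  have h := S0243.result (F := F) rfl n hn
  rw [ExtLU.prod_gl n _ (by omega)] at h
  refine Nat.eq_of_mul_eq_mul_left (by omega : 0 < Fintype.card F - 1) ?_
  rw [← h]
  ring

theorem psl {F : Type} [Field F] [Fintype F] {n : ℕ} (hn : 3 ≤ n) (hp : p = 2 ∨ p ∣ Fintype.card F)
    (h : _root_.Cfsg.Agent.H92.ExtP.Ext p (Matrix.ProjectiveSpecialLinearGroup (Fin n) F)) : n = 3 ∧ Fintype.card F = p := by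
  have hq : 1 < Fintype.card F := Fintype.one_lt_card
  obtain ⟨h1, h2, _⟩ := ExtLU.linear h hn hq (card_eq (by omega))
  have hpq : p ∣ Fintype.card F := by
    rcases hp with h3 | h3
    · have := h2 h3
      rw [h3]
      exact this
    · exact h3
  obtain ⟨h4, h5⟩ := h1 hpq
  exact ⟨h4, ExtPSU.eq_of_primePow Fintype.isPrimePow_card_of_field hpq h5⟩

theorem psl' {F : Type} [Field F] [Fintype F] {n : ℕ} (hn : 3 ≤ n) (hp : p ≠ 2) (hpq : p ∣ Fintype.card F - 1)
    (h : _root_.Cfsg.Agent.H92.ExtP.Ext p (Matrix.ProjectiveSpecialLinearGroup (Fin n) F)) : n ≤ 4 ∧ 5 ≤ p := by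
  have hq : 1 < Fintype.card F := Fintype.one_lt_card
  obtain ⟨_, _, h3⟩ := ExtLU.linear h hn hq (card_eq (by omega))
  obtain ⟨h4, h5⟩ := h3 hp hpq
  have hpp : p.Prime := Fact.out
  refine ⟨h4, ?_⟩
  by_contra h6
  have h7 := hpp.two_le
  have h8 : p = 4 := by omega
  rw [h8] at hpp
  exact absurd hpp (by norm_num)

/-! ### dimension two -/

theorem comm_char {F : Type} [Field F] [Fintype F] [CharP F p] (P : Subgroup (_root_.Matrix.SpecialLinearGroup (Fin 2) F))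
    (hP : IsPGroup p P) {a b : _root_.Matrix.SpecialLinearGroup (Fin 2) F} (ha : a ∈ P) (hb : b ∈ P) : a * b = b * a := by
  obtain ⟨Q, hQ⟩ := hP.exists_le_sylow
  obtain ⟨c, hc⟩ := exists_smul_upperUnipSylowSL_eq p Q
  have ha' := hQ ha
  have hb' := hQ hb
  rw [← hc] at ha' hb'
  have ha2 := eq_u_of_mem_upperUnipSL ((mem_smul_upperUnipSylowSL_iff p).1 ha')
  have hb2 := eq_u_of_mem_upperUnipSL ((mem_smul_upperUnipSylowSL_iff p).1 hb')
  have h1 : (c⁻¹ * a * c) * (c⁻¹ * b * c) = (c⁻¹ * b * c) * (c⁻¹ * a * c) := by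
    rw [ha2, hb2, ← u_add, ← u_add, add_comm]
  have h2 : c⁻¹ * (a * b) * c = c⁻¹ * (b * a) * c := by
    calc c⁻¹ * (a * b) * c = (c⁻¹ * a * c) * (c⁻¹ * b * c) := by group
      _ = (c⁻¹ * b * c) * (c⁻¹ * a * c) := h1
      _ = c⁻¹ * (b * a) * c := by group
  exact mul_left_cancel (mul_right_cancel h2)

theorem mod_sixteen {q : ℕ} (h1 : 16 ∣ q ^ 2 - 1) (h2 : ¬ 32 ∣ q ^ 2 - 1) (hq : 1 ≤ q) :
    q % 16 = 7 ∨ q % 16 = 9 := by
  have key : ∀ r < 32, (r ^ 2 % 16 = 1 ∧ r ^ 2 % 32 ≠ 1) → (r % 16 = 7 ∨ r % 16 = 9) := by decide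
  have h3 : q ^ 2 % 16 = 1 := ((Nat.modEq_iff_dvd' (Nat.one_le_pow 2 q hq)).2 h1).symm
  have h4 : q ^ 2 % 32 ≠ 1 := fun h5 => h2 ((Nat.modEq_iff_dvd' (Nat.one_le_pow 2 q hq)).1
    (show 1 % 32 = q ^ 2 % 32 by rw [h5]))
  have h5 := key (q % 32) (Nat.mod_lt _ (by norm_num)) ⟨?_, ?_⟩
  · omega
  · have h6 : (q % 32) ^ 2 % 32 % 16 = q ^ 2 % 32 % 16 := by rw [← Nat.pow_mod]
    omega
  · rw [← Nat.pow_mod]
    exact h4

theorem psl_two {F : Type} [Field F] [Fintype F] (h : _root_.Cfsg.Agent.H92.ExtP.Ext p (Matrix.ProjectiveSpecialLinearGroup (Fin 2) F)) :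
    p = 2 ∧ (Fintype.card F % 16 = 7 ∨ Fintype.card F % 16 = 9) := by
  have hpp : p.Prime := Fact.out
  have hq : 1 < Fintype.card F := Fintype.one_lt_card
  obtain ⟨P, hP, _, a, ha, b, hb, hab⟩ := h.exists_lift
    (QuotientGroup.mk' (Subgroup.center (_root_.Matrix.SpecialLinearGroup (Fin 2) F))) (QuotientGroup.mk'_surjective _)
  have hnc : a * b ≠ b * a := fun h2 => hab (by rw [← map_mul, ← map_mul, h2])
  obtain ⟨r, hr⟩ := CharP.exists F
  have hrp : r.Prime := (CharP.char_is_prime_or_zero F r).resolve_right (CharP.char_ne_zero_of_finite F r)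
  have : Fact r.Prime := ⟨hrp⟩
  by_cases hpr : p = r
  · subst hpr
    exact absurd (comm_char P hP ha hb) hnc
  by_cases hp2 : p = 2
  · refine ⟨hp2, ?_⟩
    subst hp2
    have hodd : Odd (Fintype.card F) := by
      obtain ⟨n, _, hn⟩ := FiniteField.card F r
      rw [hn]
      exact (hrp.odd_of_ne_two (Ne.symm hpr)).pow
    have hc := card_eq (F := F) (n := 2) le_rfl
    have hg : Nat.gcd 2 (Fintype.card F - 1) = 2 := by
      refine Nat.gcd_eq_left ?_
      obtain ⟨k, hk⟩ := hodd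
      exact ⟨k, by omega⟩
    rw [hg, show 2 - 1 = 1 from rfl, Finset.prod_range_one] at hc
    change 2 * Nat.card (Matrix.ProjectiveSpecialLinearGroup (Fin 2) F) =
      Fintype.card F ^ 1 * (Fintype.card F ^ 2 - 1) at hc
    rw [pow_one] at hc
    refine mod_sixteen ?_ ?_ hq.le
    · have h1 : 16 ∣ Fintype.card F * (Fintype.card F ^ 2 - 1) := by
        rw [← hc]
        exact mul_dvd_mul_left 2 h.dvd
      refine (Nat.Coprime.dvd_of_dvd_mul_left ?_ h1)
      exact Nat.Coprime.pow_left 4 (Nat.coprime_two_left.2 hodd)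
    · intro h1
      have h2 : 2 * 2 ^ 4 ∣ 2 * Nat.card (Matrix.ProjectiveSpecialLinearGroup (Fin 2) F) := by
        rw [hc]
        exact h1.mul_left _
      exact h.not_dvd (Nat.dvd_of_mul_dvd_mul_left (by norm_num) h2)
  · obtain ⟨Q, hQ⟩ := hP.exists_le_sylow
    have hcyc := S0262.result r p hp2 hpr Q
    refine absurd ?_ hnc
    have h3 : (⟨a, hQ ha⟩ : ↥(Q : Subgroup (_root_.Matrix.SpecialLinearGroup (Fin 2) F))) * ⟨b, hQ hb⟩ =
        ⟨b, hQ hb⟩ * ⟨a, hQ ha⟩ := by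
      obtain ⟨g, hg⟩ := hcyc.exists_generator
      obtain ⟨i, hi⟩ := hg ⟨a, hQ ha⟩
      obtain ⟨j, hj⟩ := hg ⟨b, hQ hb⟩
      rw [← hi, ← hj]
      exact (Commute.zpow_zpow_self g i j).eq
    exact congrArg Subtype.val h3

end Cfsg.Agent.H616.ExtPSL
end
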